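import Groth.Agent.Sga2lef.H88.LocDualStd
import Groth.Agent.Sga2lef.H88.LocDualBdd
import Groth.Agent.Sga4h.BidGlobDual
import Groth.Agent.Sga2lef.H87.DepthLocal
import Groth.Agent.Etbase.StalkPull
import Mathlib.AlgebraicGeometry.AlgClosed.Basic
import Mathlib.AlgebraicGeometry.Noetherian

/-!
# Local duality at the closed points of a scheme of finite type over an algebraically closed field

* `bddInj_of_sheafDual`, `bddInj_res`: bounded injective resolutions of the constant sheaf;
* `isZero_stalk`: `F` of étale depth `≥ n` at the closed point `x` ⇒ `H^b(RHom(F, Λ))_x = 0` for `b > N - n`.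
-/

set_option autoImplicit false
universe u

open CategoryTheory CategoryTheory.Limits CategoryTheory.Abelian AlgebraicGeometry Opposite

attribute [local instance 5000] CategoryTheory.Abelian.toPreadditive
  CategoryTheory.Preadditive.preadditiveHasZeroMorphisms

-- kernel speed: find the instances on `ULift (ZMod m)` through `CommRing`
attribute [-instance] ULift.ring ULift.semiring ULift.commSemiring ULift.addCommGroup ULift.addCommMonoid

namespace Groth.Agent.Sga2lef.H88.LocDualEt

attribute [local instance] HasDerivedCategory.standard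
open scoped Groth.Agent.Sga4h.ModInst
open Groth.Agent.Sga4h Groth.Agent.Sga4h.Refl DerivedCategory Groth.Agent.Sga4h.BidRed538Main
open Groth.Agent.Sga4h.BidEtSh Groth.Agent.Sga2lef.H88.LocDualMap

section Res

variable {Λ : Type (u + 1)} [CommRing Λ] {X U : Scheme.{u}}

/-- Bounded resolutions restrict along étale morphisms. -/
theorem bddInj_res (v : U ⟶ X) [Etale v] {N : ℕ} (h : BddInj (unitCx Λ X) N) : BddInj (unitCx Λ U) N := by
  obtain ⟨e, he⟩ : ∃ e : unitCx Λ U ⟶ ((resM Λ v).mapHomologicalComplex (ComplexShape.up ℤ)).obj (unitCx Λ X),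
      QuasiIso e := by
    let e : ((resM Λ v).mapHomologicalComplex (ComplexShape.up ℤ)).obj (unitCx Λ X) ≅ unitCx Λ U :=
      ((HomologicalComplex.singleMapHomologicalComplex (resM Λ v) (ComplexShape.up ℤ) 0).app
        (EtModW.constMod Λ X Λ)) ≪≫
        (CochainComplex.singleFunctor (EtModW.Mod Λ U) 0).mapIso (constResM Λ v Λ)
    exact ⟨e.inv, inferInstance⟩
  have hinj : (resM Λ v).PreservesInjectiveObjects :=
    Functor.preservesInjectiveObjects_of_adjunction_of_preservesMonomorphisms (adjM Λ v)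
  exact BddInj.of_quasiIso e he (h.map (resM Λ v) hinj)

/-- Bounded resolutions from global duality. -/
theorem bddInj_of_sheafDual {N n : ℕ} (hn : n ≠ 0)
    {tr : Ext.{u + 1} (EtModW.constMod Λ X Λ) (EtModW.constMod Λ X Λ) N →+ ZMod n}
    (B : BidGlobDual.SheafDual n tr) : BddInj (unitCx Λ X) N :=
  BddInj.of_dim _ _ ((hasInjectiveDimensionLT_iff.{u + 1} _ _).2 fun i hi Y e =>
      B.ext_eq_zero (Groth.Agent.Sga4B.DualFT.injOn_zmod.{u + 1} n hn) (by lia) Y e)

end Res

section Point

variable {k : Type u} [Field k] [IsAlgClosed k] {X : Scheme.{u}} (a : X ⟶ Spec (CommRingCat.of k))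
  [LocallyOfFiniteType a] {m : ℕ} (hm : 0 < m) (x : X) (hx : IsClosed {x})

include a in
omit [IsAlgClosed k] in
/-- Depth at a closed point and local cohomology. -/
theorem isZero_locCoh (F : EtCoh.Ab X) (n : ℕ) (h : EtDepth.DepthAtGE X F x n) (p : ℕ) (hp : p < n) :
    IsZero ((EtDual.locCoh (Scheme.Opens.ι (⟨{x}ᶜ, hx.isOpen_compl⟩ : X.Opens)) p).obj F) := by
  have hN : IsLocallyNoetherian X := LocallyOfFiniteType.isLocallyNoetherian a
  refine (Groth.Agent.Sga2lef.H87.DepthLocal.depthGE_iff _ F n).2 (fun y hy => ?_) p hp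
  have : y = x := by
    by_contra hne
    exact hy (by
      rw [Scheme.Opens.range_ι]
      exact hne)
  rw [this]
  exact h

include a hx hm in
/-- **Local duality at the closed points**: stalks of the dual. -/
theorem isZero_stalk (N : ℕ) (hN : BddInj (unitCx (ULift.{u + 1} (ZMod m)) X) N)
    (hrefl : ∀ E : CochainComplex (EtModW.Mod (ULift.{u + 1} (ZMod m)) X) ℤ,
      EtModD.IsDbc (Q.obj E) → (stdDual (ULift.{u + 1} (ZMod m)) X).Refl E)
    (F : EtModW.Mod (ULift.{u + 1} (ZMod m)) X) (hF : EtModW.IsConstructible (ULift.{u + 1} (ZMod m)) F)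
    (n : ℕ) (h : EtDepth.DepthAtGE X ((Etrest.ModAb.ab (ULift.{u + 1} (ZMod m)) X).obj F) x n)
    (b : ℤ) (hb : N - b < n) {Ω : Type u} [Field Ω] [IsSepClosed Ω] (ξ : Spec (CommRingCat.of Ω) ⟶ X)
    (hξ : ξ default = x) :
    IsZero ((EtCoh.stalk ξ).obj ((Etrest.ModAb.ab (ULift.{u + 1} (ZMod m)) X).obj
      (((stdDual (ULift.{u + 1} (ZMod m)) X).D
        ((CochainComplex.singleFunctor (EtModW.Mod (ULift.{u + 1} (ZMod m)) X) 0).obj F)).homology b))) := by
  have hNX : IsLocallyNoetherian X := LocallyOfFiniteType.isLocallyNoetherian a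
  let i : Spec (CommRingCat.of k) ⟶ X := pointOfClosedPoint a x hx
  have hi : IsClosedImmersion i := isClosedImmersion_of_comp_eq_id _ _ (pointOfClosedPoint_comp a x hx)
  have hi' : LocallyOfFinitePresentation i := by
    rw [LocallyOfFinitePresentation.iff_locallyOfFiniteType]
    infer_instance
  let U : X.Opens := ⟨{x}ᶜ, hx.isOpen_compl⟩
  have hd : Disjoint (Set.range i) (Set.range U.ι) := by
    rw [Set.disjoint_left]
    rintro _ ⟨t, rfl⟩ hy
    rw [Scheme.Opens.range_ι] at hy
    exact hy (pointOfClosedPoint_apply a x hx t)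
  have hS : ∀ b : ℤ, (stdDual (ULift.{u + 1} (ZMod m)) X).Refl
      ((HomologicalComplex.single (EtModW.Mod (ULift.{u + 1} (ZMod m)) X) (ComplexShape.up ℤ) b).obj
        (LocDualSky.sky m i)) := fun b =>
    hrefl _ ((Dbc323.isDbc_Q_single_iff (LocDualSky.sky m i) b).2 (LocDualSky.isConstructible_sky m i hm))
  have hF' := hrefl _ ((Dbc323.isDbc_Q_single_iff F 0).2 hF)
  have key := isZero_pull_homology hm i U.ι hd N hN F hF' b (hS b) n
    (fun p hp => isZero_locCoh a x hx _ n h p hp) hb
  obtain ⟨ζ, rfl⟩ := Etcore.OpenClosed.exists_lift_closedImmersion i ξ (by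
    rw [hξ]
    exact ⟨default, pointOfClosedPoint_apply a x hx _⟩)
  have h1 : IsZero ((EtCoh.pull i).obj ((Etrest.ModAb.ab (ULift.{u + 1} (ZMod m)) X).obj
      (((stdDual (ULift.{u + 1} (ZMod m)) X).D
        ((CochainComplex.singleFunctor (EtModW.Mod (ULift.{u + 1} (ZMod m)) X) 0).obj F)).homology b))) :=
    (((Etrest.ModAb.ab (ULift.{u + 1} (ZMod m)) _).map_isZero key).of_iso
      ((Etrest.ModAb.pullIso (ULift.{u + 1} (ZMod m)) i).app _).symm)
  exact ((EtCoh.stalk ζ).map_isZero h1).of_iso ((Groth.Agent.Etbase.StalkPull.stalkPullIso i ζ).app _)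

end Point

end Groth.Agent.Sga2lef.H88.LocDualEt
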